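import Mathlib

/-!
# S43 (S3439) sub-lemma [F20]: the group generated by `β`, `γ` with `β^5 = 1`, `γ^4 = 1`,
`γ β γ⁻¹ = β^3` (pure group theory).
-/

set_option autoImplicit false

namespace Cfsg.Agent.Lib.Helper34.S43

variable {G : Type*} [Group G] {β γ : G}

theorem f20_conj_pow (h : γ * β * γ⁻¹ = β ^ 3) (j n : ℕ) :
    γ ^ j * β ^ n * (γ ^ j)⁻¹ = β ^ (3 ^ j * n) := by
  induction j generalizing n with
  | zero => simp
  | succ j ih =>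
    have h1 : γ ^ (j + 1) * β ^ n * (γ ^ (j + 1))⁻¹ = γ ^ j * (γ * β ^ n * γ⁻¹) * (γ ^ j)⁻¹ := by
      rw [pow_succ]; group
    rw [h1, ← conj_pow, h, ← pow_mul, ih]
    congr 1
    ring

theorem f20_swap (h : γ * β * γ⁻¹ = β ^ 3) (j n : ℕ) :
    γ ^ j * β ^ n = β ^ (3 ^ j * n) * γ ^ j := by
  rw [← f20_conj_pow h j n]; group

theorem f20_inv_pow_β (hβ : β ^ 5 = 1) (i : ℕ) : (β ^ i)⁻¹ = β ^ (4 * i) := by
  rw [inv_eq_iff_mul_eq_one, ← pow_add]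
  have : i + 4 * i = 5 * i := by ring
  rw [this, pow_mul, hβ, one_pow]

theorem f20_inv_pow_γ (hγ : γ ^ 4 = 1) (j : ℕ) : (γ ^ j)⁻¹ = γ ^ (3 * j) := by
  rw [inv_eq_iff_mul_eq_one, ← pow_add]
  have : j + 3 * j = 4 * j := by ring
  rw [this, pow_mul, hγ, one_pow]

theorem f20_form' (hβ : β ^ 5 = 1) (hγ : γ ^ 4 = 1) (h : γ * β * γ⁻¹ = β ^ 3) :
    ∀ f ∈ Subgroup.closure ({β, γ} : Set G), ∃ i j : ℕ, f = β ^ i * γ ^ j := by
  intro f hf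
  induction hf using Subgroup.closure_induction with
  | mem x hx =>
    rcases hx with rfl | rfl
    · exact ⟨1, 0, by simp⟩
    · exact ⟨0, 1, by simp⟩
  | one => exact ⟨0, 0, by simp⟩
  | mul x y _ _ hx hy =>
    obtain ⟨i, j, rfl⟩ := hx
    obtain ⟨i', j', rfl⟩ := hy
    refine ⟨i + 3 ^ j * i', j + j', ?_⟩
    calc β ^ i * γ ^ j * (β ^ i' * γ ^ j') = β ^ i * (γ ^ j * β ^ i') * γ ^ j' := by group
      _ = β ^ i * (β ^ (3 ^ j * i') * γ ^ j) * γ ^ j' := by rw [f20_swap h]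
      _ = β ^ (i + 3 ^ j * i') * γ ^ (j + j') := by rw [pow_add, pow_add]; group
  | inv x _ hx =>
    obtain ⟨i, j, rfl⟩ := hx
    refine ⟨3 ^ (3 * j) * (4 * i), 3 * j, ?_⟩
    rw [mul_inv_rev, f20_inv_pow_β hβ, f20_inv_pow_γ hγ, f20_swap h]

/-- **[F20] normal form**: every element is `β^i γ^j`, `i < 5`, `j < 4`. -/
theorem f20_form (hβ : β ^ 5 = 1) (hγ : γ ^ 4 = 1) (h : γ * β * γ⁻¹ = β ^ 3) :
    ∀ f ∈ Subgroup.closure ({β, γ} : Set G), ∃ i j : ℕ, i < 5 ∧ j < 4 ∧ f = β ^ i * γ ^ j := by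
  intro f hf
  obtain ⟨i, j, rfl⟩ := f20_form' hβ hγ h f hf
  exact ⟨i % 5, j % 4, Nat.mod_lt _ (by norm_num), Nat.mod_lt _ (by norm_num),
    by rw [← pow_eq_pow_mod i hβ, ← pow_eq_pow_mod j hγ]⟩

/-- **[F20] cases**: `f = 1`, or `f = β^i ≠ 1`, or `f` is a `β`-conjugate of `γ^j`,
`j ∈ {1,2,3}`. -/
theorem f20_cases (hβ : β ^ 5 = 1) (hγ : γ ^ 4 = 1) (h : γ * β * γ⁻¹ = β ^ 3) :
    ∀ f ∈ Subgroup.closure ({β, γ} : Set G), f = 1 ∨ (f ≠ 1 ∧ ∃ i : ℕ, f = β ^ i) ∨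
      ∃ k j : ℕ, (j = 1 ∨ j = 2 ∨ j = 3) ∧ f = β ^ k * γ ^ j * (β ^ k)⁻¹ := by
  intro f hf
  obtain ⟨i, j, -, hj, rfl⟩ := f20_form hβ hγ h f hf
  have key : ∀ k j : ℕ, (k + 3 ^ j * (4 * k)) % 5 = i % 5 →
      β ^ i * γ ^ j = β ^ k * γ ^ j * (β ^ k)⁻¹ := by
    intro k j hk
    rw [f20_inv_pow_β hβ, mul_assoc (β ^ k), f20_swap h, ← mul_assoc, ← pow_add,
      pow_eq_pow_mod (k + 3 ^ j * (4 * k)) hβ, hk, ← pow_eq_pow_mod i hβ]
  interval_cases j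
  · by_cases h1 : β ^ i * γ ^ 0 = 1
    · exact Or.inl h1
    · exact Or.inr (Or.inl ⟨h1, i, by simp⟩)
  · exact Or.inr (Or.inr ⟨2 * i, 1, Or.inl rfl, key _ _ (by omega)⟩)
  · exact Or.inr (Or.inr ⟨3 * i, 2, Or.inr (Or.inl rfl), key _ _ (by omega)⟩)
  · exact Or.inr (Or.inr ⟨4 * i, 3, Or.inr (Or.inr rfl), key _ _ (by omega)⟩)

theorem f20_finite (hβ : β ^ 5 = 1) (hγ : γ ^ 4 = 1) (h : γ * β * γ⁻¹ = β ^ 3) :
    Finite (Subgroup.closure ({β, γ} : Set G)) := by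
  have hsub : ((Subgroup.closure ({β, γ} : Set G) : Subgroup G) : Set G) ⊆
      Set.range (fun x : Fin 5 × Fin 4 => β ^ (x.1 : ℕ) * γ ^ (x.2 : ℕ)) := by
    intro f hf
    obtain ⟨i, j, hi, hj, rfl⟩ := f20_form hβ hγ h f hf
    exact ⟨(⟨i, hi⟩, ⟨j, hj⟩), rfl⟩
  exact (Set.Finite.subset (Set.finite_range _) hsub).to_subtype

theorem f20_card_le (hβ : β ^ 5 = 1) (hγ : γ ^ 4 = 1) (h : γ * β * γ⁻¹ = β ^ 3) :
    Nat.card (Subgroup.closure ({β, γ} : Set G)) ≤ 20 := by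
  classical
  have hsub : ((Subgroup.closure ({β, γ} : Set G) : Subgroup G) : Set G) ⊆
      Set.range (fun x : Fin 5 × Fin 4 => β ^ (x.1 : ℕ) * γ ^ (x.2 : ℕ)) := by
    intro f hf
    obtain ⟨i, j, hi, hj, rfl⟩ := f20_form hβ hγ h f hf
    exact ⟨(⟨i, hi⟩, ⟨j, hj⟩), rfl⟩
  calc Nat.card (Subgroup.closure ({β, γ} : Set G))
      = Set.ncard ((Subgroup.closure ({β, γ} : Set G) : Subgroup G) : Set G) :=
        (Nat.card_coe_set_eq _)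
    _ ≤ Set.ncard (Set.range (fun x : Fin 5 × Fin 4 => β ^ (x.1 : ℕ) * γ ^ (x.2 : ℕ))) :=
        Set.ncard_le_ncard hsub (Set.finite_range _)
    _ ≤ Nat.card (Fin 5 × Fin 4) := by
        rw [← Set.image_univ]
        refine le_trans (Set.ncard_image_le Set.finite_univ) ?_
        rw [Set.ncard_univ]
    _ = 20 := by simp

/-- **[F20] order**: `|⟨β, γ⟩| = 20` when `β`, `γ` have orders exactly 5 and 4. -/
theorem f20_card (hβ : orderOf β = 5) (hγ : orderOf γ = 4) (h : γ * β * γ⁻¹ = β ^ 3) :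
    Nat.card (Subgroup.closure ({β, γ} : Set G)) = 20 := by
  have hβ5 : β ^ 5 = 1 := by rw [← hβ]; exact pow_orderOf_eq_one β
  have hγ4 : γ ^ 4 = 1 := by rw [← hγ]; exact pow_orderOf_eq_one γ
  have hfin := f20_finite hβ5 hγ4 h
  have hle := f20_card_le hβ5 hγ4 h
  have hβmem : β ∈ Subgroup.closure ({β, γ} : Set G) := Subgroup.subset_closure (by simp)
  have hγmem : γ ∈ Subgroup.closure ({β, γ} : Set G) := Subgroup.subset_closure (by simp)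
  have h5 : 5 ∣ Nat.card (Subgroup.closure ({β, γ} : Set G)) := by
    rw [← hβ]; exact Subgroup.orderOf_dvd_natCard _ hβmem
  have h4 : 4 ∣ Nat.card (Subgroup.closure ({β, γ} : Set G)) := by
    rw [← hγ]; exact Subgroup.orderOf_dvd_natCard _ hγmem
  have hpos : 0 < Nat.card (Subgroup.closure ({β, γ} : Set G)) := Nat.card_pos
  omega

end Cfsg.Agent.Lib.Helper34.S43
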