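import Mathlib

/-!
# S43 (S3439) sub-lemma [ORD5]: a fixed-point-free automorphism `f` with `f^5 = 1` of a finite
group has trivial "norm" `a * f a * f² a * f³ a * f⁴ a`; elements `(a, f)` of a semidirect
product have order 5.
-/

set_option autoImplicit false

namespace Cfsg.Agent.Lib.Helper34.S43

theorem fix_of_pow {A : Type*} [Group A] {β f : MulAut A} (hβ : β ^ 5 = 1) {i : ℕ}
    (hf : f = β ^ i) (hf1 : f ≠ 1) (hfix : ∀ a : A, β a = a → a = 1) :
    ∀ a : A, f a = a → a = 1 := by
  have hi : ¬ 5 ∣ i := by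
    rintro ⟨k, rfl⟩
    apply hf1
    rw [hf, pow_mul, hβ, one_pow]
  obtain ⟨m, hm⟩ : ∃ m : ℕ, (i * m) % 5 = 1 := by
    have h5 : i % 5 = 1 ∨ i % 5 = 2 ∨ i % 5 = 3 ∨ i % 5 = 4 := by omega
    rcases h5 with h | h | h | h
    · exact ⟨1, by omega⟩
    · exact ⟨3, by omega⟩
    · exact ⟨2, by omega⟩
    · exact ⟨4, by omega⟩
  have hβf : β = f ^ m := by
    rw [hf, ← pow_mul, pow_eq_pow_mod (i * m) hβ, hm, pow_one]
  intro a ha
  have hpow : ∀ n : ℕ, (f ^ n) a = a := by
    intro n
    induction n with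
    | zero => simp
    | succ n ih => rw [pow_succ, MulAut.mul_apply, ha, ih]
  apply hfix
  rw [hβf]
  exact hpow m

theorem norm5_eq_one {A : Type*} [Group A] [Finite A] (f : MulAut A) (hf5 : f ^ 5 = 1)
    (hfix : ∀ a : A, f a = a → a = 1) (a : A) :
    a * f a * f (f a) * f (f (f a)) * f (f (f (f a))) = 1 := by
  have hinj : Function.Injective (fun x : A => x⁻¹ * f x) := by
    intro x y hxy
    simp only at hxy
    have h1 : f (y * x⁻¹) = y * x⁻¹ := by
      rw [map_mul, map_inv]
      have h2 : f y = y * (x⁻¹ * f x) := by rw [hxy]; group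
      rw [h2]; group
    have h2 := hfix _ h1
    exact (mul_inv_eq_one.mp h2).symm
  obtain ⟨x, rfl⟩ := (Finite.injective_iff_surjective.mp hinj) a
  have h5 : f (f (f (f (f x)))) = x := by
    have := congrArg (fun g : MulAut A => g x) hf5
    simpa [pow_succ, MulAut.mul_apply] using this
  simp only [map_mul, map_inv]
  rw [h5]
  group

theorem sdp_pow5_left {A G : Type*} [Group A] [Group G] (φ : G →* MulAut A) (h : A ⋊[φ] G) :
    (h ^ 5).left = h.left * φ h.right h.left * φ h.right (φ h.right h.left) *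
      φ h.right (φ h.right (φ h.right h.left)) *
      φ h.right (φ h.right (φ h.right (φ h.right h.left))) := by
  simp [pow_succ, map_mul, MulAut.mul_apply]

theorem sdp_pow_right {A G : Type*} [Group A] [Group G] (φ : G →* MulAut A) (h : A ⋊[φ] G)
    (n : ℕ) : (h ^ n).right = h.right ^ n :=
  map_pow (SemidirectProduct.rightHom (φ := φ)) h n

/-- **[ORD5]** -/
theorem ord5 {A G : Type*} [Group A] [Finite A] [Group G] (φ : G →* MulAut A) (h : A ⋊[φ] G)
    (hf5 : h.right ^ 5 = 1) (hf1 : h.right ≠ 1) (hfix : ∀ a : A, φ h.right a = a → a = 1) :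
    orderOf h = 5 := by
  have h5 : h ^ 5 = 1 := by
    apply SemidirectProduct.ext
    · rw [sdp_pow5_left]
      exact norm5_eq_one (φ h.right) (by rw [← map_pow, hf5, map_one]) hfix h.left
    · rw [sdp_pow_right, hf5]; rfl
  have h1 : h ≠ 1 := fun hh => hf1 (by rw [hh]; rfl)
  have : Fact (Nat.Prime 5) := ⟨by norm_num⟩
  exact orderOf_eq_prime h5 h1

end Cfsg.Agent.Lib.Helper34.S43
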